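import Cfsg.Agent.TensorMax.Basic
import Cfsg.Agent.ClMax99.TensorRank

/-!
Some element outside the tensor stabiliser sends a line `F^a ⊗ v` to a line (helper99).
-/

set_option autoImplicit false
set_option linter.unusedSectionVars false
set_option linter.unusedSimpArgs false

namespace Cfsg.Agent.TensorMax

open Matrix Cfsg.Agent.MaxSub Cfsg.Agent.ClMax99.TensorRank Module
open scoped Kronecker

variable {F : Type*} [Field F] {a b : ℕ}

/-- The embedding `x ↦ x ⊗ w`. -/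
def emb (w : Fin b → F) : (Fin a → F) →ₗ[F] (Fin a × Fin b → F) where
  toFun x p := x p.1 * w p.2
  map_add' x y := funext fun p => add_mul _ _ _
  map_smul' c x := funext fun p => mul_assoc _ _ _

/-- The contraction `id ⊗ φ`. -/
def ctr (φ : Fin b → F) : (Fin a × Fin b → F) →ₗ[F] (Fin a → F) where
  toFun z i := φ ⬝ᵥ fun j => z (i, j)
  map_add' y z := funext fun i => dotProduct_add φ (fun j => y (i, j)) (fun j => z (i, j))
  map_smul' c z := funext fun i => dotProduct_smul c φ (fun j => z (i, j))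

theorem ctr_emb (φ w : Fin b → F) (x : Fin a → F) : ctr φ (emb w x) = (φ ⬝ᵥ w) • x := by
  funext i
  simp only [ctr, emb, LinearMap.coe_mk, AddHom.coe_mk, dotProduct, Pi.smul_apply, smul_eq_mul,
    Finset.sum_mul]
  exact Finset.sum_congr rfl fun j _ => by ring

theorem emb_injective {w : Fin b → F} (hw : w ≠ 0) : Function.Injective (emb (a := a) w) := by
  obtain ⟨j, hj⟩ := Function.ne_iff.mp hw
  exact fun x y h => funext fun i => mul_right_cancel₀ hj (congrFun h (i, j))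

theorem kr_emb (g : GL (Fin a) F) (h : GL (Fin b) F) (w : Fin b → F) (x : Fin a → F) :
    (kr g h : Matrix (Fin a × Fin b) (Fin a × Fin b) F) *ᵥ emb w x =
      emb ((h : Matrix (Fin b) (Fin b) F) *ᵥ w) ((g : Matrix (Fin a) (Fin a) F) *ᵥ x) :=
  kronecker_mulVec _ _ x w

theorem kr_tv_mulVec {w φ : Fin b → F} (h : φ ⬝ᵥ w = 0) (z : Fin a × Fin b → F) :
    (kr (1 : GL (Fin a) F) (tv w φ) : Matrix (Fin a × Fin b) (Fin a × Fin b) F) *ᵥ z =
      z + emb w (ctr φ z) := by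
  funext p
  obtain ⟨i, j⟩ := p
  rw [kr_coe, Units.val_one, tv_coe h]
  simp only [Matrix.mulVec, dotProduct, Fintype.sum_prod_type, Matrix.kroneckerMap_apply, emb, ctr,
    Pi.add_apply, LinearMap.coe_mk, AddHom.coe_mk, Matrix.one_apply, ite_mul, one_mul, zero_mul,
    Matrix.add_apply, vecMulVec_apply, add_mul]
  rw [Finset.sum_eq_single i (fun k _ hk => by simp [Ne.symm hk]) (by simp)]
  simp only [if_true, Finset.sum_add_distrib, Finset.sum_ite_eq, Finset.mem_univ, Finset.sum_mul]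
  congr 1
  exact Finset.sum_congr rfl fun l _ => by ring

theorem exists_dot_zero (hb : 2 ≤ b) {φ : Fin b → F} :
    ∃ w : Fin b → F, w ≠ 0 ∧ φ ⬝ᵥ w = 0 := by
  let L : (Fin b → F) →ₗ[F] F :=
    { toFun := fun w => φ ⬝ᵥ w
      map_add' := dotProduct_add φ
      map_smul' := fun c w => dotProduct_smul c φ w }
  obtain ⟨w, hw, hw0⟩ := Submodule.exists_mem_ne_zero_of_ne_bot
    (LinearMap.ker_ne_bot_of_finrank_lt (f := L)
      (by rw [finrank_self, finrank_fin_fun]; omega))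
  exact ⟨w, hw0, hw⟩

/-- `s` sends the line of `v` into the line of `w`. -/
def LineTo (s : GL (Fin a × Fin b) F) (v w : Fin b → F) : Prop :=
  ∀ x : Fin a → F, ∃ y : Fin a → F,
    (s : Matrix (Fin a × Fin b) (Fin a × Fin b) F) *ᵥ emb v x = emb w y

theorem lineTo_of_conj_mem (hab : a < b) (ha : 1 ≤ a) {h : GL (Fin a × Fin b) F} {w φ : Fin b → F}
    (hw : w ≠ 0) (hφ : φ ≠ 0) (hφw : φ ⬝ᵥ w = 0)
    (hs : h⁻¹ * kr (1 : GL (Fin a) F) (tv w φ) * h ∈ Cfsg.Geo.kroneckerSubgroup a b F) :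
    ∃ w' : Fin b → F, w' ≠ 0 ∧ LineTo h⁻¹ w w' := by
  classical
  obtain ⟨g, k, hgk⟩ := hs
  set U := (kr (1 : GL (Fin a) F) (tv w φ) : Matrix (Fin a × Fin b) (Fin a × Fin b) F) with hU
  set S := ((h⁻¹ * kr (1 : GL (Fin a) F) (tv w φ) * h : GL (Fin a × Fin b) F) :
    Matrix (Fin a × Fin b) (Fin a × Fin b) F) with hS
  have hUr : (U - (1 : F) • 1).rank ≤ a := by
    rw [one_smul, hU, kr_coe, Units.val_one, tv_coe hφw,
      show (1 : Matrix (Fin a) (Fin a) F) ⊗ₖ (1 + vecMulVec w φ) - 1 =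
        (1 : Matrix (Fin a) (Fin a) F) ⊗ₖ vecMulVec w φ from by
          rw [Matrix.kronecker_add, Matrix.one_kronecker_one, add_sub_cancel_left],
      rank_one_kronecker]
    calc a * (vecMulVec w φ).rank ≤ a * 1 := Nat.mul_le_mul_left _ (rank_vecMulVec_le _ _)
      _ = a := mul_one a
  have hSr : (S - (1 : F) • 1).rank ≤ a := by
    have := rank_conj h⁻¹ U 1
    rw [inv_inv] at this
    rw [hS, Units.val_mul, Units.val_mul, this]
    exact hUr
  by_cases hg : ∃ c : F, (g : Matrix (Fin a) (Fin a) F) = c • 1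
  swap
  · push Not at hg
    have := le_rank_of_nonscalar hg k 1
    rw [← hgk] at this
    omega
  obtain ⟨c, hc⟩ := hg
  set N := c • (k : Matrix (Fin b) (Fin b) F) - 1 with hN
  have hSN : S - 1 = (1 : Matrix (Fin a) (Fin a) F) ⊗ₖ N := by
    rw [hgk, hc, Matrix.smul_kronecker, ← Matrix.kronecker_smul, hN]
    ext p q
    by_cases h1 : p.1 = q.1 <;> by_cases h2 : p.2 = q.2 <;>
      simp [Matrix.one_apply, Prod.ext_iff, h1, h2]
  have hNr : finrank F (LinearMap.range (Matrix.toLin' N)) ≤ 1 := by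
    rw [← rank_eq]
    rw [one_smul, hSN, rank_one_kronecker] at hSr
    exact Nat.le_of_mul_le_mul_left (hSr.trans_eq (mul_one a).symm) (by omega)
  obtain ⟨⟨w', hw'⟩, hspan⟩ := finrank_le_one_iff.mp hNr
  obtain ⟨y₀, hy₀⟩ := exists_dotProduct_ne_zero hφ
  have hkey : ∀ x : Fin a → F, ∃ y : Fin a → F,
      ((h⁻¹ : GL (Fin a × Fin b) F) : Matrix (Fin a × Fin b) (Fin a × Fin b) F) *ᵥ emb w x =
        emb w' y := by
    intro x
    set z := emb y₀ ((φ ⬝ᵥ y₀)⁻¹ • x)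
    have h1 : (S - 1) *ᵥ (((h⁻¹ : GL (Fin a × Fin b) F) : Matrix (Fin a × Fin b) (Fin a × Fin b) F) *ᵥ z) =
        ((h⁻¹ : GL (Fin a × Fin b) F) : Matrix (Fin a × Fin b) (Fin a × Fin b) F) *ᵥ emb w x := by
      rw [sub_mulVec, one_mulVec, hS, Units.val_mul, Units.val_mul, ← mulVec_mulVec, ← mulVec_mulVec,
        mulVec_inv_mulVec, kr_tv_mulVec hφw, mulVec_add, add_sub_cancel_left]
      simp only [z, ctr_emb, smul_smul, mul_inv_cancel₀ hy₀, one_smul]
    rw [← h1, hSN]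
    set z' := ((h⁻¹ : GL (Fin a × Fin b) F) : Matrix (Fin a × Fin b) (Fin a × Fin b) F) *ᵥ z
    choose y hy using fun i : Fin a => hspan ⟨N *ᵥ fun j => z' (i, j), _, Matrix.toLin'_apply _ _⟩
    refine ⟨y, funext fun p => ?_⟩
    have h2 := congrFun (congrArg Subtype.val (hy p.1)) p.2
    simp only [SetLike.val_smul, Pi.smul_apply, smul_eq_mul] at h2
    show _ = y p.1 * w' p.2
    rw [h2]
    simp [Matrix.mulVec, dotProduct, Fintype.sum_prod_type, Matrix.one_apply]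
  refine ⟨w', fun h0 => ?_, hkey⟩
  obtain ⟨y, hy⟩ := hkey (fun _ => 1)
  have : emb (a := a) w (fun _ => 1) = 0 := mulVec_injective h⁻¹ (by
    show _ *ᵥ _ = _ *ᵥ _
    rw [hy, mulVec_zero, h0]; funext p; simp [emb])
  exact one_ne_zero (congrFun (emb_injective hw (this.trans (map_zero _).symm)) ⟨0, ha⟩)

variable (H : Subgroup (GL (Fin a × Fin b) F))
variable (hM : ∀ g h, Matrix.GeneralLinearGroup.det (kr g h) = 1 → kr g h ∈ H)

include hM in
/-- An element outside the tensor stabiliser sends some line to a line. -/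
theorem exists_lineTo (ha : 1 ≤ a) (hab : a < b) {g₀ : GL (Fin a × Fin b) F} (hg₀ : g₀ ∈ H)
    (hdet : Matrix.GeneralLinearGroup.det g₀ = 1)
    (hT : g₀ ∉ Cfsg.Geo.kroneckerSubgroup a b F) :
    ∃ (s : GL (Fin a × Fin b) F) (v w : Fin b → F), s ∈ H ∧
      Matrix.GeneralLinearGroup.det s = 1 ∧ s ∉ Cfsg.Geo.kroneckerSubgroup a b F ∧
      v ≠ 0 ∧ w ≠ 0 ∧ LineTo s v w := by
  classical
  by_contra hno
  push Not at hno
  let Out : GL (Fin a × Fin b) F → Prop := fun s => s ∈ H ∧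
    Matrix.GeneralLinearGroup.det s = 1 ∧ s ∉ Cfsg.Geo.kroneckerSubgroup a b F
  have hstep : ∀ {h}, Out h → ∀ {w φ : Fin b → F}, w ≠ 0 → φ ≠ 0 → φ ⬝ᵥ w = 0 →
      Out (h⁻¹ * kr (1 : GL (Fin a) F) (tv w φ) * h) := by
    intro h hh w φ hw hφ hφw
    have hd : Matrix.GeneralLinearGroup.det (kr (1 : GL (Fin a) F) (tv w φ)) = 1 :=
      det_kr_eq_one (map_one _) (det_tv _ _)
    refine ⟨mul_mem (mul_mem (inv_mem hh.1) (hM _ _ hd)) hh.1, by simp [hd, hh.2.1], fun hm => ?_⟩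
    obtain ⟨w', hw', hl⟩ := lineTo_of_conj_mem hab ha hw hφ hφw hm
    exact hno h⁻¹ w w' (inv_mem hh.1) (by simp [hh.2.1])
      (fun hc => hh.2.2 (by simpa using inv_mem hc)) hw hw' hl
  let L : (Fin b → F) → Submodule F (Fin a × Fin b → F) := fun w => LinearMap.range (emb (a := a) w)
  let im : GL (Fin a × Fin b) F → (Fin b → F) → Submodule F (Fin a × Fin b → F) :=
    fun s v => (L v).map (s : Matrix (Fin a × Fin b) (Fin a × Fin b) F).mulVecLin
  let P : ℕ → Prop := fun d => ∃ s, Out s ∧ ∃ v w, v ≠ 0 ∧ w ≠ 0 ∧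
    finrank F ↥(im s v ⊓ L w) = d
  have hL : ∀ {w : Fin b → F}, w ≠ 0 → finrank F (L w) = a := fun hw => by
    rw [LinearMap.finrank_range_of_inj (emb_injective hw), finrank_fin_fun]
  have hle : ∀ s (v w : Fin b → F), w ≠ 0 → finrank F ↥(im s v ⊓ L w) ≤ a := fun s v w hw =>
    (Submodule.finrank_mono inf_le_right).trans (hL hw).le
  -- a first intersection
  obtain ⟨d₁, hd₁, hP₁⟩ : ∃ d, 0 < d ∧ P d := by
    set v : Fin b → F := Pi.single ⟨0, by omega⟩ 1
    set p := emb (a := a) v fun _ => 1 with hp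
    have hv : v ≠ 0 := by simp [v]
    have hp0 : p ≠ 0 := fun h =>
      one_ne_zero (congrFun (emb_injective hv (h.trans (map_zero _).symm)) ⟨0, ha⟩)
    let K : (Fin b → F) →ₗ[F] (Fin a → F) :=
      { toFun := fun φ => ctr φ ((g₀ : Matrix (Fin a × Fin b) (Fin a × Fin b) F) *ᵥ p)
        map_add' := fun φ ψ => funext fun i => add_dotProduct φ ψ _
        map_smul' := fun c φ => funext fun i => smul_dotProduct c φ _ }
    obtain ⟨φ, hφK, hφ⟩ := Submodule.exists_mem_ne_zero_of_ne_bot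
      (LinearMap.ker_ne_bot_of_finrank_lt (f := K) (by rw [finrank_fin_fun, finrank_fin_fun]; exact hab))
    obtain ⟨w, hw, hφw⟩ := exists_dot_zero (show 2 ≤ b by omega) (φ := φ)
    set s := g₀⁻¹ * kr (1 : GL (Fin a) F) (tv w φ) * g₀ with hs
    have hsp : (s : Matrix (Fin a × Fin b) (Fin a × Fin b) F) *ᵥ p = p := by
      rw [hs, Units.val_mul, Units.val_mul, ← mulVec_mulVec, ← mulVec_mulVec, kr_tv_mulVec hφw,
        show ctr φ _ = 0 from hφK, map_zero, add_zero, inv_mulVec_mulVec]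
    refine ⟨_, ?_, s, hstep ⟨hg₀, hdet, hT⟩ hw hφ hφw, v, v, hv, hv, rfl⟩
    exact finrank_pos_iff_exists_ne_zero.mpr
      ⟨⟨p, ⟨p, ⟨_, rfl⟩, hsp⟩, ⟨_, rfl⟩⟩, fun h => hp0 (congrArg Subtype.val h)⟩
  have hd₁a : d₁ ≤ a := by
    obtain ⟨s, -, v, w, -, hw, rfl⟩ := hP₁
    exact hle s v w hw
  obtain ⟨h, hh, v, w, hv, hw, hd⟩ := Nat.findGreatest_spec (P := P) hd₁a hP₁
  set d := Nat.findGreatest P a
  have hmax : ∀ s, Out s → ∀ v w : Fin b → F, v ≠ 0 → w ≠ 0 → finrank F ↥(im s v ⊓ L w) ≤ d :=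
    fun s hs v w hv hw => Nat.le_findGreatest (hle s v w hw) ⟨s, hs, v, w, hv, hw, rfl⟩
  have hdpos : 0 < d := lt_of_lt_of_le hd₁ (Nat.le_findGreatest hd₁a hP₁)
  set L' := im h v with hL'
  -- an element outside the intersection
  obtain ⟨l, hl, hlw⟩ : ∃ l ∈ L', l ∉ L w := by
    by_contra hc
    push Not at hc
    refine hno h v w hh.1 hh.2.1 hh.2.2 hv hw fun x => ?_
    obtain ⟨y, hy⟩ := hc _ ⟨_, ⟨x, rfl⟩, rfl⟩
    exact ⟨y, hy.symm⟩
  set D := L'.comap (emb (a := a) w) with hD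
  have hDd : finrank F D = d := by
    rw [← hd]
    have h1 : D.map (emb (a := a) w) = L' ⊓ L w := by
      rw [hD, Submodule.map_comap_eq, inf_comm]
    rw [← h1]
    exact (Submodule.equivMapOfInjective _ (emb_injective hw) D).finrank_eq
  let K : (Fin b → F) →ₗ[F] F × ((Fin a → F) ⧸ D) :=
    { toFun := fun φ => (φ ⬝ᵥ w, D.mkQ (ctr φ l))
      map_add' := fun φ ψ => Prod.ext (add_dotProduct φ ψ w)
        (show D.mkQ (ctr (φ + ψ) l) = _ by
          rw [show ctr (φ + ψ) l = ctr φ l + ctr ψ l from funext fun i => add_dotProduct φ ψ _, map_add]; rfl)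
      map_smul' := fun c φ => Prod.ext (smul_dotProduct c φ w)
        (show D.mkQ (ctr (c • φ) l) = _ by
          rw [show ctr (c • φ) l = c • ctr φ l from funext fun i => smul_dotProduct c φ _, map_smul]; rfl) }
  obtain ⟨φ, hφK, hφ⟩ := Submodule.exists_mem_ne_zero_of_ne_bot
    (LinearMap.ker_ne_bot_of_finrank_lt (f := K) (by
      have h1 := D.finrank_quotient_add_finrank
      rw [finrank_fin_fun] at h1
      rw [finrank_prod, finrank_self, finrank_fin_fun]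
      omega))
  have hφw : φ ⬝ᵥ w = 0 := congrArg Prod.fst (LinearMap.mem_ker.mp hφK)
  have hφl : ctr φ l ∈ D := (Submodule.Quotient.mk_eq_zero D).mp
    (congrArg Prod.snd (LinearMap.mem_ker.mp hφK))
  set u := kr (1 : GL (Fin a) F) (tv w φ)
  have hu : ∀ z ∈ (L' ⊓ L w) ⊔ Submodule.span F {l},
      z ∈ L' ∧ (u : Matrix (Fin a × Fin b) (Fin a × Fin b) F) *ᵥ z ∈ L' := by
    intro z hz
    obtain ⟨y, ⟨hy, ⟨x, rfl⟩⟩, t, ht, rfl⟩ := Submodule.mem_sup.mp hz
    obtain ⟨c, rfl⟩ := Submodule.mem_span_singleton.mp ht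
    have h1 : emb w x + c • l ∈ L' := add_mem hy (L'.smul_mem c hl)
    refine ⟨h1, ?_⟩
    rw [kr_tv_mulVec hφw]
    refine add_mem h1 ?_
    rw [map_add, map_smul, ctr_emb, hφw, zero_smul, zero_add, map_smul]
    exact L'.smul_mem c hφl
  set S := (L' ⊓ L w) ⊔ Submodule.span F {l}
  set s := h⁻¹ * u * h
  have hlt : L' ⊓ L w < S := lt_of_le_of_ne le_sup_left fun he =>
    hlw ((he ▸ Submodule.mem_sup_right (Submodule.mem_span_singleton_self l) : l ∈ L' ⊓ L w).2)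
  have h1 : d < finrank F S := hd ▸ Submodule.finrank_lt_finrank_of_lt hlt
  have hle2 : S.map ((h⁻¹ * u : GL (Fin a × Fin b) F) :
      Matrix (Fin a × Fin b) (Fin a × Fin b) F).mulVecLin ≤ im s v ⊓ L v := by
    rintro _ ⟨z, hz, rfl⟩
    obtain ⟨⟨_, ⟨x, rfl⟩, hx⟩, ⟨_, ⟨y, rfl⟩, hy⟩⟩ := hu z hz
    simp only [Matrix.mulVecLin_apply] at hx hy ⊢
    refine ⟨⟨emb v x, ⟨x, rfl⟩, ?_⟩, ⟨y, ?_⟩⟩
    · simp only [s, Matrix.mulVecLin_apply, Units.val_mul, ← mulVec_mulVec, hx]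
    · rw [Units.val_mul, ← mulVec_mulVec, ← hy, inv_mulVec_mulVec]
  have h2 := (Submodule.finrank_mono hle2).trans (hmax s (hstep hh hw hφ hφw) v v hv hv)
  rw [← (Submodule.equivMapOfInjective _ (fun x y hxy => mulVec_injective (h⁻¹ * u) hxy) S).finrank_eq] at h2
  omega

end Cfsg.Agent.TensorMax
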