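import Cfsg.Agent.TensorMax.LineStab
import Cfsg.Agent.TensorMax.Lines

/-!
Overgroups of the tensor stabiliser in the special linear group, factors of different dimensions (helper99).
-/

set_option autoImplicit false
set_option linter.unusedSectionVars false
set_option linter.unusedSimpArgs false

namespace Cfsg.Agent.TensorMax

open Matrix Cfsg.Agent.MaxSub
open scoped Kronecker commutatorElement

variable {F : Type*} [Field F] {a b : ℕ}

theorem el_trans {ι : Type} [Fintype ι] [DecidableEq ι] {H : Subgroup (GL ι F)} {p q r : ι}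
    (hpq : p ≠ q) (hqr : q ≠ r) (hpr : p ≠ r) (h1 : ∀ c : F, Frame.el p q c ∈ H)
    (h2 : ∀ c : F, Frame.el q r c ∈ H) (c : F) : Frame.el p r c ∈ H := by
  have he := tv_comm (Frame.el_ortho hpq c) (Frame.el_ortho hqr (1 : F))
    (by simp [hpr] : Pi.single r (1 : F) ⬝ᵥ (Pi.single p 1 : ι → F) = 0)
  have hc : (Pi.single q c ⬝ᵥ (Pi.single q 1 : ι → F)) • (Pi.single r 1 : ι → F) = Pi.single r c := by
    simp [← Pi.single_smul']
  rw [hc] at he
  rw [Frame.el, ← he, commutatorElement_def]
  exact mul_mem (mul_mem (mul_mem (h1 c) (h2 1)) (inv_mem (h1 c))) (inv_mem (h2 1))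

variable (H : Subgroup (GL (Fin a × Fin b) F))

/-- A group containing the tensor stabiliser of the special linear group and one further element
contains the special linear group. -/
theorem specialLinear_le (hM : ∀ g h, Matrix.GeneralLinearGroup.det (kr g h) = 1 → kr g h ∈ H)
    (ha : 2 ≤ a) (hab : a < b) (hq : 3 ≤ a ∨ 3 ≤ Nat.card F)
    {g₀ : GL (Fin a × Fin b) F} (hg₀ : g₀ ∈ H) (hdet : Matrix.GeneralLinearGroup.det g₀ = 1)
    (hT : g₀ ∉ Cfsg.Geo.kroneckerSubgroup a b F) :
    Cfsg.Geo.specialLinear (Fin a × Fin b) F ≤ H := by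
  obtain ⟨s, v, w, hs, hsd, hsT, hv, hw, hl⟩ := exists_lineTo H hM (by omega) hab hg₀ hdet hT
  have hcross : ∀ (i k : Fin a) (j l : Fin b), i ≠ k → j ≠ l → ∀ c : F,
      Frame.el (i, j) (k, l) c ∈ H := by
    intro i k j l hik hjl c
    obtain ⟨g1, hg1, hg1j⟩ := exists_det_one_map (F := F) (ι := Fin b) (by rw [Fintype.card_fin]; omega)
      (show (Pi.single j 1 : Fin b → F) ≠ 0 by simp) hv
    obtain ⟨g2, hg2, hg2w⟩ := exists_det_one_map (F := F) (ι := Fin b) (by rw [Fintype.card_fin]; omega)
      hw (show (Pi.single j 1 : Fin b → F) ≠ 0 by simp)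
    have hd1 := det_kr_eq_one (a := a) (map_one _) hg1
    have hd2 := det_kr_eq_one (a := a) (map_one _) hg2
    refine el_mem_of_line_stab (s := kr 1 g2 * s * kr 1 g1) hM ha (by omega) hq
      (mul_mem (mul_mem (hM _ _ hd2) hs) (hM _ _ hd1)) (by simp [hd1, hd2, hsd])
      (fun hm => hsT ?_) (fun m hm => ?_) hik hjl.symm c
    · have := mul_mem (mul_mem (inv_mem (kr_mem 1 g2)) hm) (inv_mem (kr_mem 1 g1))
      simpa [mul_assoc] using this
    · ext x y
      have he : (Pi.single (y, j) 1 : Fin a × Fin b → F) =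
          emb (Pi.single j 1) (Pi.single y 1) := by
        funext p
        by_cases h1 : p.1 = y <;> by_cases h2 : p.2 = j <;>
          simp [emb, Pi.single_apply, Prod.ext_iff, h1, h2]
      rw [blk_apply, Matrix.zero_apply]
      have h := congrFun (mulVec_single_one
        ((kr 1 g2 * s * kr 1 g1 : GL (Fin a × Fin b) F) :
          Matrix (Fin a × Fin b) (Fin a × Fin b) F) (y, j)) (x, m)
      obtain ⟨y', hy'⟩ := hl (Pi.single y 1)
      rw [he, Units.val_mul, Units.val_mul, ← mulVec_mulVec, ← mulVec_mulVec, kr_emb, hg1j,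
        Units.val_one, one_mulVec, hy', kr_emb, hg2w, col_apply] at h
      rw [Units.val_mul, Units.val_mul, ← h]
      simp [emb, hm]
  refine Frame.specialLinear_le_of_el_mem fun p q hpq c => ?_
  obtain ⟨i, j⟩ := p
  obtain ⟨k, l⟩ := q
  have hrow : ∀ (x : Fin a) (j l : Fin b), j ≠ l → ∀ c : F, Frame.el (x, j) (x, l) c ∈ H := by
    intro x j l hjl c
    haveI : Nontrivial (Fin a) := Fin.nontrivial_iff_two_le.mpr ha
    obtain ⟨y, hy⟩ := exists_ne x
    obtain ⟨m, -, hm⟩ := Finset.exists_mem_notMem_of_card_lt_card (s := ({j, l} : Finset (Fin b)))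
      (t := Finset.univ) (lt_of_le_of_lt Finset.card_le_two (by rw [Finset.card_univ, Fintype.card_fin]; omega))
    simp only [Finset.mem_insert, Finset.mem_singleton, not_or] at hm
    exact el_trans (q := (y, m)) (by simp [hy.symm]) (by simp [hy]) (by simp [hjl])
      (hcross x y j m hy.symm (Ne.symm hm.1)) (hcross y x m l hy hm.2) c
  by_cases hik : i = k
  · subst hik
    exact hrow i j l (fun h => hpq (by rw [h])) c
  · by_cases hjl : j = l
    · subst hjl
      haveI : Nontrivial (Fin b) := Fin.nontrivial_iff_two_le.mpr (by omega)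
      obtain ⟨m, hm⟩ := exists_ne j
      exact el_trans (q := (i, m)) (by simp [hm.symm]) (by simp [hik]) (by simp [hik])
        (hrow i j m hm.symm) (hcross i k m j hik hm) c
    · exact hcross i k j l hik hjl c

end Cfsg.Agent.TensorMax
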