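import Cfsg.Agent.TensorMax.Basic
import Cfsg.Agent.MaxSub.Frame.Basic

/-!
An element stabilising a line `F^a ⊗ e` outside the tensor stabiliser yields transvections (helper99).
-/

set_option autoImplicit false
set_option linter.unusedSectionVars false
set_option linter.unusedSimpArgs false
set_option linter.style.haveILetI false

namespace Cfsg.Agent.TensorMax

open Matrix Cfsg.Agent.MaxSub
open scoped Kronecker

variable {F : Type*} [Field F] {a b : ℕ}

/-- The matrix with row of blocks `P` in row `j₀`. -/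
def zmat (j₀ : Fin b) (P : Fin b → Matrix (Fin a) (Fin a) F) :
    Matrix (Fin a × Fin b) (Fin a × Fin b) F :=
  Matrix.of fun p q => if p.2 = j₀ then P q.2 p.1 q.1 else 0

theorem blk_zmat (j₀ : Fin b) (P : Fin b → Matrix (Fin a) (Fin a) F) (j l : Fin b) :
    blk (zmat j₀ P) j l = if j = j₀ then P l else 0 := by
  ext i k
  by_cases h : j = j₀ <;> simp [blk_apply, zmat, h]

theorem zmat_mul_zmat {j₀ : Fin b} {P Q : Fin b → Matrix (Fin a) (Fin a) F} (h : P j₀ = 0) :
    zmat j₀ P * zmat j₀ Q = 0 := blk_ext fun j l => by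
  rw [blk_mul, Finset.sum_eq_single j₀]
  · rw [blk_zmat, blk_zmat, if_pos rfl]
    by_cases hj : j = j₀
    · rw [if_pos hj, h, zero_mul]; rfl
    · rw [if_neg hj, zero_mul]; rfl
  · intro m _ hm
    rw [blk_zmat (j := m), if_neg hm, mul_zero]
  · simp

theorem mul_zmat {j₀ : Fin b} {X : Matrix (Fin a × Fin b) (Fin a × Fin b) F}
    (hX : ∀ j, j ≠ j₀ → blk X j j₀ = 0) (P : Fin b → Matrix (Fin a) (Fin a) F) :
    X * zmat j₀ P = zmat j₀ fun l => blk X j₀ j₀ * P l := blk_ext fun j l => by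
  rw [blk_mul, Finset.sum_eq_single j₀]
  · rw [blk_zmat, blk_zmat, if_pos rfl]
    by_cases hj : j = j₀
    · rw [if_pos hj, hj]
    · rw [if_neg hj, hX j hj, zero_mul]
  · intro m _ hm
    rw [blk_zmat, if_neg hm, mul_zero]
  · simp

theorem zmat_mul (j₀ : Fin b) (P : Fin b → Matrix (Fin a) (Fin a) F)
    (X : Matrix (Fin a × Fin b) (Fin a × Fin b) F) :
    zmat j₀ P * X = zmat j₀ fun l => ∑ m, P m * blk X m l := blk_ext fun j l => by
  rw [blk_mul, blk_zmat]
  by_cases hj : j = j₀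
  · simp [blk_zmat, hj]
  · simp [blk_zmat, hj]

theorem zmat_add (j₀ : Fin b) (P Q : Fin b → Matrix (Fin a) (Fin a) F) :
    zmat j₀ (P + Q) = zmat j₀ P + zmat j₀ Q := blk_ext fun j l => by
  rw [blk_add, blk_zmat, blk_zmat, blk_zmat]
  split <;> simp

theorem zmat_zero (j₀ : Fin b) : zmat j₀ (0 : Fin b → Matrix (Fin a) (Fin a) F) = 0 := by
  ext p q; simp [zmat]

theorem det_one_add_zmat {j₀ : Fin b} {P : Fin b → Matrix (Fin a) (Fin a) F} (h : P j₀ = 0) :
    (1 + zmat j₀ P).det = 1 := by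
  let X : Matrix (Fin a × Fin b) (Fin a) F :=
    Matrix.of fun p m => if p.2 = j₀ ∧ p.1 = m then 1 else 0
  let Y : Matrix (Fin a) (Fin a × Fin b) F := Matrix.of fun m q => P q.2 m q.1
  have h1 : zmat j₀ P = X * Y := by
    ext p q
    by_cases hp : p.2 = j₀ <;> simp [zmat, X, Y, Matrix.mul_apply, hp]
  have h2 : Y * X = 0 := by
    ext m n
    simp [X, Y, Matrix.mul_apply, Fintype.sum_prod_type, ite_and, h]
  rw [h1, Matrix.det_one_add_mul_comm, h2, add_zero, Matrix.det_one]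

variable (H : Subgroup (GL (Fin a × Fin b) F))

/-- `1 + zmat j₀ P` lies in `H`. -/
def InW (j₀ : Fin b) (P : Fin b → Matrix (Fin a) (Fin a) F) : Prop :=
  P j₀ = 0 ∧ ∃ g ∈ H, (g : Matrix (Fin a × Fin b) (Fin a × Fin b) F) = 1 + zmat j₀ P

variable {H} {j₀ : Fin b}

theorem InW.zero : InW H j₀ 0 := ⟨rfl, 1, one_mem H, by rw [zmat_zero, add_zero]; rfl⟩

theorem InW.add {P Q : Fin b → Matrix (Fin a) (Fin a) F} (hP : InW H j₀ P) (hQ : InW H j₀ Q) :
    InW H j₀ (P + Q) := by
  obtain ⟨hP0, g, hg, hgx⟩ := hP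
  obtain ⟨hQ0, g', hg', hgx'⟩ := hQ
  refine ⟨by simp [hP0, hQ0], g * g', mul_mem hg hg', ?_⟩
  rw [Units.val_mul, hgx, hgx', zmat_add, add_mul, one_mul, mul_add, mul_one, zmat_mul_zmat hP0]
  abel

theorem InW.neg {P : Fin b → Matrix (Fin a) (Fin a) F} (hP : InW H j₀ P) : InW H j₀ (-P) := by
  obtain ⟨hP0, g, hg, hgx⟩ := hP
  refine ⟨by simp [hP0], g⁻¹, inv_mem hg, (left_inv_eq_right_inv (Units.inv_mul g) ?_)⟩
  rw [hgx, add_mul, one_mul, mul_add, mul_one, zmat_mul_zmat hP0, add_zero,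
    add_assoc, ← zmat_add, neg_add_cancel, zmat_zero, add_zero]

theorem InW.sub {P Q : Fin b → Matrix (Fin a) (Fin a) F} (hP : InW H j₀ P) (hQ : InW H j₀ Q) :
    InW H j₀ (P - Q) := sub_eq_add_neg P Q ▸ hP.add hQ.neg

theorem InW.conj {P : Fin b → Matrix (Fin a) (Fin a) F} (hP : InW H j₀ P)
    {x : GL (Fin a × Fin b) F} (hx : x ∈ H)
    (hX : ∀ j, j ≠ j₀ → blk (x : Matrix (Fin a × Fin b) (Fin a × Fin b) F) j j₀ = 0)
    (hX' : ∀ m, m ≠ j₀ → blk ((x⁻¹ : GL (Fin a × Fin b) F).1) m j₀ = 0) :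
    InW H j₀ fun l => ∑ m, blk (x : Matrix (Fin a × Fin b) (Fin a × Fin b) F) j₀ j₀ * P m *
      blk ((x⁻¹ : GL (Fin a × Fin b) F).1) m l := by
  obtain ⟨hP0, g, hg, hgx⟩ := hP
  refine ⟨?_, x * g * x⁻¹, mul_mem (mul_mem hx hg) (inv_mem hx), ?_⟩
  · show ∑ m, _ = 0
    refine Finset.sum_eq_zero fun m _ => ?_
    by_cases hm : m = j₀
    · rw [hm, hP0, mul_zero, zero_mul]
    · rw [hX' m hm, mul_zero]
  · rw [Units.val_mul, Units.val_mul, hgx, mul_add, mul_one, add_mul, mul_zmat hX, zmat_mul]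
    congr 1
    exact Units.mul_inv x

variable (H) in
/-- The matrices all whose multiples occur alone in every column of blocks. -/
def Rk (j₀ : Fin b) (α : Matrix (Fin a) (Fin a) F) : Prop :=
  ∀ (t : F) (l : Fin b), l ≠ j₀ → InW H j₀ (Pi.single l (t • α))

theorem Rk.sub {α β : Matrix (Fin a) (Fin a) F} (h : Rk H j₀ α) (h' : Rk H j₀ β) :
    Rk H j₀ (α - β) := fun t l hl => by
  rw [smul_sub, Pi.single_sub]; exact (h t l hl).sub (h' t l hl)

theorem Rk.smul {α : Matrix (Fin a) (Fin a) F} (h : Rk H j₀ α) (c : F) : Rk H j₀ (c • α) :=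
  fun t l hl => by rw [smul_smul]; exact h _ l hl

variable (hM : ∀ g h, Matrix.GeneralLinearGroup.det (kr g h) = 1 → kr g h ∈ H)

include hM in
theorem InW.shift {P : Fin b → Matrix (Fin a) (Fin a) F} (hP : InW H j₀ P) {k l : Fin b}
    (hk : k ≠ j₀) (hl : l ≠ j₀) (hkl : k ≠ l) (t : F) : InW H j₀ (Pi.single l (t • P k)) := by
  have hd : Pi.single l (-t) ⬝ᵥ (Pi.single k 1 : Fin b → F) = 0 := by simp [hkl.symm]
  set x := kr (1 : GL (Fin a) F) (tv (Pi.single k 1) (Pi.single l (-t))) with hxdef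
  have hx : x ∈ H := hM _ _ (det_kr_eq_one (map_one _) (det_tv _ _))
  have hbx : ∀ j m, blk (x : Matrix (Fin a × Fin b) (Fin a × Fin b) F) j m =
      ((if j = m then 1 else 0) + (Pi.single k 1 : Fin b → F) j * (Pi.single l (-t) : Fin b → F) m) • 1 := by
    intro j m
    rw [hxdef, kr_coe, blk_kron, Units.val_one, tv_coe hd]
    simp [Matrix.one_apply, vecMulVec_apply]
  have hbx' : ∀ j m, blk ((x⁻¹ : GL (Fin a × Fin b) F).1) j m =
      ((if j = m then 1 else 0) + (Pi.single k 1 : Fin b → F) j * (Pi.single l t : Fin b → F) m) • 1 := by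
    intro j m
    rw [hxdef, kr_inv, inv_one, tv_inv hd, kr_coe, blk_kron, Units.val_one,
      tv_coe (by simp [hkl.symm]), ← Pi.single_neg, neg_neg]
    simp [Matrix.one_apply, vecMulVec_apply]
  have h1 := hP.conj hx (fun j hj => by rw [hbx]; simp [hj, hl.symm])
    (fun j hj => by rw [hbx']; simp [hj, hl.symm])
  convert h1.sub hP using 1
  funext m
  have h2 : ∀ n, P n * blk ((x⁻¹ : GL (Fin a × Fin b) F).1) n m =
      (if n = m then P n else 0) + (if n = k then (Pi.single l t : Fin b → F) m • P k else 0) := by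
    intro n
    rw [hbx', add_smul, mul_add]
    congr 1
    · split <;> simp
    · by_cases hn : n = k
      · subst hn; simp
      · simp [hn]
  simp only [Pi.sub_apply, hbx, hk.symm, ne_eq, not_false_eq_true, Pi.single_eq_of_ne, zero_mul,
    add_zero, if_true, one_smul, one_mul, h2, Finset.sum_add_distrib, Finset.sum_ite_eq',
    Finset.mem_univ, add_sub_cancel_left]
  by_cases hm : m = l
  · subst hm; simp
  · simp [hm]

include hM in
theorem Rk.of_inW (hb : 3 ≤ b) {P : Fin b → Matrix (Fin a) (Fin a) F} (hP : InW H j₀ P) {k : Fin b}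
    (hk : k ≠ j₀) : Rk H j₀ (P k) := by
  intro t l hl
  by_cases hkl : k = l
  · subst hkl
    obtain ⟨l', hl'⟩ : ∃ l', l' ∉ ({j₀, k} : Finset (Fin b)) :=
      Finset.exists_mem_notMem_of_card_lt_card (s := {j₀, k}) (t := Finset.univ)
        (by rw [Finset.card_univ, Fintype.card_fin]; exact lt_of_le_of_lt Finset.card_le_two (by omega))
        |>.imp fun _ h => h.2
    simp only [Finset.mem_insert, Finset.mem_singleton, not_or] at hl'
    have h1 := InW.shift hM hP hk hl'.1 (Ne.symm hl'.2) t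
    have h2 := InW.shift hM h1 hl'.1 hk hl'.2 1
    rwa [Pi.single_eq_same, one_smul] at h2
  · exact InW.shift hM hP hk hl hkl t

include hM in
theorem Rk.conj {α : Matrix (Fin a) (Fin a) F} (hα : Rk H j₀ α) {g : GL (Fin a) F}
    (hg : Matrix.GeneralLinearGroup.det g = 1) :
    Rk H j₀ ((g : Matrix (Fin a) (Fin a) F) * α * ((g⁻¹ : GL (Fin a) F).1)) := by
  intro t l hl
  have hx : kr g (1 : GL (Fin b) F) ∈ H := hM _ _ (det_kr_eq_one hg (map_one _))
  have h1 := (hα t l hl).conj hx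
    (fun j hj => by rw [kr_coe, blk_kron]; simp [Matrix.one_apply, hj])
    (fun j hj => by rw [kr_inv, inv_one, kr_coe, blk_kron]; simp [Matrix.one_apply, hj])
  convert h1 using 1
  funext m
  simp only [kr_inv, inv_one, kr_coe, blk_kron, Units.val_one, Matrix.one_apply, if_true, one_smul,
    ite_smul, zero_smul, mul_ite, mul_zero, Finset.sum_ite_eq', Finset.mem_univ]
  by_cases hm : m = l
  · subst hm; simp [mul_smul_comm]
  · simp [hm]

theorem exists_not_eigen {α : Matrix (Fin a) (Fin a) F} (hα : ∀ c : F, α ≠ c • 1) :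
    ∃ u : Fin a → F, u ≠ 0 ∧ α *ᵥ u ∉ Submodule.span F {u} := by
  by_cases hoff : ∃ i j, i ≠ j ∧ α i j ≠ 0
  · obtain ⟨i, j, hij, hne⟩ := hoff
    refine ⟨Pi.single j 1, by simp, fun h => ?_⟩
    obtain ⟨c, hc⟩ := Submodule.mem_span_singleton.mp h
    have := congrFun hc i
    rw [Pi.smul_apply, Pi.single_eq_of_ne hij, smul_zero, Matrix.mulVec_single_one] at this
    exact hne this.symm
  · push Not at hoff
    have hd : α = Matrix.diagonal fun i => α i i := by
      ext i j
      by_cases h : i = j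
      · subst h; simp
      · simp [hoff i j h, h]
    obtain ⟨i, j, hij⟩ : ∃ i j, α i i ≠ α j j := by
      by_contra hc
      push Not at hc
      rcases Nat.eq_zero_or_pos a with rfl | ha
      · exact hα 0 (Matrix.ext fun i => i.elim0)
      refine hα (α ⟨0, ha⟩ ⟨0, ha⟩) (hd.trans ?_)
      rw [Matrix.smul_one_eq_diagonal]
      exact congrArg _ (funext fun i => hc i _)
    have hne : i ≠ j := fun e => hij (by rw [e])
    refine ⟨Pi.single i 1 + Pi.single j 1, fun h => ?_, fun h => ?_⟩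
    · have := congrFun h i
      simp [hne] at this
    · obtain ⟨c, hc⟩ := Submodule.mem_span_singleton.mp h
      have e1 := congrFun hc i
      have e2 := congrFun hc j
      rw [hd, Matrix.mulVec_diagonal] at e1 e2
      simp [hne, hne.symm] at e1 e2
      exact hij (e1.symm.trans e2)

theorem tv_diff {u ρ : Fin a → F} (h : ρ ⬝ᵥ u = 0) (α : Matrix (Fin a) (Fin a) F) (c : F) :
    (tv u (c • ρ) : Matrix (Fin a) (Fin a) F) * α * ((tv u (c • ρ))⁻¹).1 - α =
      c • (vecMulVec u (ρ ᵥ* α) - vecMulVec (α *ᵥ u) ρ) -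
        (c * c * (ρ ⬝ᵥ (α *ᵥ u))) • vecMulVec u ρ := by
  have hc : (c • ρ) ⬝ᵥ u = 0 := by rw [smul_dotProduct, h, smul_zero]
  rw [tv_coe hc, tv_inv_coe hc, vecMulVec_smul, add_mul, one_mul, mul_sub, mul_one, add_mul,
    Matrix.smul_mul, Matrix.mul_smul, Matrix.mul_smul, Matrix.smul_mul, vecMulVec_mul,
    mul_vecMulVec, vecMulVec_mul_vecMulVec, ← dotProduct_mulVec, vecMulVec_smul]
  module

theorem exists_field_elt (hq : 3 ≤ Nat.card F) : ∃ c : F, c ≠ 0 ∧ c ≠ 1 := by
  classical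
  haveI := Nat.finite_of_card_ne_zero (show Nat.card F ≠ 0 by omega)
  letI := Fintype.ofFinite F
  rw [Nat.card_eq_fintype_card] at hq
  obtain ⟨c, -, hc⟩ := Finset.exists_mem_notMem_of_card_lt_card (s := ({0, 1} : Finset F))
    (t := Finset.univ) (lt_of_le_of_lt Finset.card_le_two (by rw [Finset.card_univ]; omega))
  simp only [Finset.mem_insert, Finset.mem_singleton, not_or] at hc
  exact ⟨c, hc⟩

include hM in
theorem Rk.exists_rankOne (hq : 3 ≤ a ∨ 3 ≤ Nat.card F) {α : Matrix (Fin a) (Fin a) F}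
    (hα : Rk H j₀ α) (hns : ∀ c : F, α ≠ c • 1) :
    ∃ u ρ : Fin a → F, u ≠ 0 ∧ ρ ≠ 0 ∧ ρ ⬝ᵥ u = 0 ∧ Rk H j₀ (vecMulVec u ρ) := by
  obtain ⟨u, hu, hau⟩ := exists_not_eigen hns
  obtain ⟨ρ, hρu, hρ⟩ := exists_annihilator hau
  have hρu := hρu u (Submodule.mem_span_singleton_self u)
  have hρ0 : ρ ≠ 0 := fun h => by simp [h] at hρ
  have hdiff : ∀ {β : Matrix (Fin a) (Fin a) F}, Rk H j₀ β → ∀ {v φ : Fin a → F} (c : F),
      φ ⬝ᵥ v = 0 → Rk H j₀ (c • (vecMulVec v (φ ᵥ* β) - vecMulVec (β *ᵥ v) φ) -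
        (c * c * (φ ⬝ᵥ (β *ᵥ v))) • vecMulVec v φ) := fun {β} hβ {v φ} c h =>
    tv_diff h β c ▸ (Rk.conj hM hβ (det_tv v (c • φ))).sub hβ
  rcases hq with ha | hq
  · have hU : Module.finrank F (Submodule.span F ({u, α *ᵥ u} : Set (Fin a → F))) < a := by
      classical
      refine lt_of_le_of_lt ((finrank_span_le_card (R := F) _).trans ?_) (show 2 < a by omega)
      simp only [Set.toFinset_insert, Set.toFinset_singleton]
      exact Finset.card_le_two
    obtain ⟨x, hx⟩ : ∃ x, x ∉ Submodule.span F ({u, α *ᵥ u} : Set (Fin a → F)) := by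
      by_contra hc
      push Not at hc
      rw [Submodule.eq_top_iff'.mpr hc, finrank_top, Module.finrank_fin_fun] at hU
      omega
    obtain ⟨φ, hφ, hφx⟩ := exists_annihilator hx
    have hφu : φ ⬝ᵥ u = 0 := hφ u (Submodule.subset_span (by simp))
    have hφau : φ ⬝ᵥ (α *ᵥ u) = 0 := hφ _ (Submodule.subset_span (by simp))
    have h1 := hdiff hα 1 hφu
    rw [hφau, mul_zero, zero_smul, sub_zero, one_smul] at h1
    have h2 := hdiff h1 1 hρu
    have e1 : (vecMulVec u (φ ᵥ* α) - vecMulVec (α *ᵥ u) φ) *ᵥ u = 0 := by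
      simp [sub_mulVec, vecMulVec_mulVec, ← dotProduct_mulVec, hφau, hφu]
    have e2 : ρ ᵥ* (vecMulVec u (φ ᵥ* α) - vecMulVec (α *ᵥ u) φ) = -φ := by
      simp [vecMul_sub, vecMul_vecMulVec, hρu, hρ]
    rw [e1, e2, dotProduct_zero, mul_zero, zero_smul, sub_zero, one_smul, zero_vecMulVec, sub_zero,
      vecMulVec_neg] at h2
    exact ⟨u, φ, hu, fun h => by simp [h] at hφx, hφu, by simpa using h2.smul (-1)⟩
  · refine ⟨u, ρ, hu, hρ0, hρu, ?_⟩
    obtain ⟨c, hc0, hc1⟩ := exists_field_elt hq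
    have h1 := hdiff hα c hρu
    have h2 := (hdiff hα 1 hρu).smul c
    have h3 := ((h1.sub h2).smul (-(c * c - c))⁻¹)
    have hcc : -(c * c - c) ≠ 0 := by
      rw [neg_ne_zero, show c * c - c = c * (c - 1) by ring]
      exact mul_ne_zero hc0 (sub_ne_zero.mpr hc1)
    convert h3 using 1
    rw [hρ, eq_comm, inv_smul_eq_iff₀ hcc]
    module

include hM in
theorem Rk.conj_vecMulVec {u ρ : Fin a → F} (h : Rk H j₀ (vecMulVec u ρ)) {g : GL (Fin a) F}
    (hg : Matrix.GeneralLinearGroup.det g = 1) :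
    Rk H j₀ (vecMulVec ((g : Matrix (Fin a) (Fin a) F) *ᵥ u) (ρ ᵥ* (g⁻¹ : GL (Fin a) F).1)) := by
  have := Rk.conj hM h hg
  rwa [mul_vecMulVec, vecMulVec_mul] at this

include hM in
theorem Rk.all_root (ha : 2 ≤ a) {u ρ : Fin a → F} (hu : u ≠ 0) (hρ : ρ ≠ 0) (hρu : ρ ⬝ᵥ u = 0)
    (h : Rk H j₀ (vecMulVec u ρ)) (i k : Fin a) (hik : i ≠ k) :
    Rk H j₀ (vecMulVec (Pi.single i 1) (Pi.single k 1)) := by
  classical
  -- some column in the row `i`
  obtain ⟨g, hg, hgu⟩ := exists_det_one_map (F := F) (ι := Fin a) (by simpa using ha) hu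
    (v := Pi.single i 1) (by simp)
  have h1 := Rk.conj_vecMulVec hM h hg
  rw [hgu] at h1
  set ρ' := ρ ᵥ* (g⁻¹ : GL (Fin a) F).1 with hρ'
  have hρ'i : ρ' i = 0 := by
    have := vecMul_inv_dotProduct g ρ u
    rw [hgu, hρu, ← hρ', dotProduct_single_one] at this
    exact this
  obtain ⟨k', hk'⟩ : ∃ k', ρ' k' ≠ 0 := by
    by_contra hc
    push Not at hc
    refine hρ (funext fun x => ?_)
    have := vecMul_inv_dotProduct g ρ (Pi.single x 1)
    rw [← hρ', show ρ' = 0 from funext hc, zero_dotProduct, dotProduct_single_one] at this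
    exact this.symm
  have hk'i : k' ≠ i := fun e => hk' (e ▸ hρ'i)
  set c := ρ' k'
  set ψ : Fin a → F := c⁻¹ • (ρ' - c • Pi.single k' 1) with hψ
  have hψk : ψ ⬝ᵥ Pi.single k' 1 = 0 := by simp [hψ, dotProduct_single_one, c]
  have hψi : ψ ⬝ᵥ Pi.single i 1 = 0 := by simp [hψ, dotProduct_single_one, hρ'i, hk'i.symm]
  have h2 := Rk.conj_vecMulVec hM h1 (det_tv (Pi.single k' 1) ψ)
  rw [tv_mulVec hψk, hψi, zero_smul, add_zero, tv_inv_coe hψk, vecMul_sub, vecMul_one,
    vecMul_vecMulVec, dotProduct_single_one] at h2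
  have h3 : Rk H j₀ (vecMulVec (Pi.single i 1) (Pi.single k' 1)) := by
    convert Rk.smul h2 c⁻¹ using 1
    rw [← vecMulVec_smul]
    congr 1
    simp only [hψ, c, smul_sub, smul_smul, mul_inv_cancel₀ hk', inv_mul_cancel₀ hk', one_smul]
    module
  -- change the column
  by_cases hkk : k' = k
  · exact hkk ▸ h3
  have hd : (-Pi.single k 1 : Fin a → F) ⬝ᵥ Pi.single k' 1 = 0 := by simp [Ne.symm hkk]
  have h4 := Rk.conj_vecMulVec hM h3 (det_tv (Pi.single k' 1) (-Pi.single k 1))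
  rw [tv_mulVec hd, show (-Pi.single k 1 : Fin a → F) ⬝ᵥ Pi.single i 1 = 0 by simp [hik.symm],
    zero_smul, add_zero, tv_inv_coe hd, vecMul_sub, vecMul_one, vecMul_vecMulVec,
    dotProduct_single_one, Pi.single_eq_same, one_smul, sub_neg_eq_add, vecMulVec_add] at h4
  simpa using h4.sub h3

include hM in
/-- An element outside the tensor stabiliser fixing `F^a ⊗ e_j₀` yields the root elements. -/
theorem el_mem_of_line_stab (ha : 2 ≤ a) (hb : 3 ≤ b) (hq : 3 ≤ a ∨ 3 ≤ Nat.card F)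
    {s : GL (Fin a × Fin b) F} (hsH : s ∈ H) (hdet : Matrix.GeneralLinearGroup.det s = 1)
    (hsT : s ∉ Cfsg.Geo.kroneckerSubgroup a b F)
    (hs : ∀ j, j ≠ j₀ → blk (s : Matrix (Fin a × Fin b) (Fin a × Fin b) F) j j₀ = 0)
    {i k : Fin a} (hik : i ≠ k) {l : Fin b} (hl : l ≠ j₀) (c : F) :
    Frame.el (i, j₀) (k, l) c ∈ H := by
  classical
  set α := blk (s : Matrix (Fin a × Fin b) (Fin a × Fin b) F) j₀ j₀ with hα
  set α' := blk (s⁻¹ : GL (Fin a × Fin b) F).1 j₀ j₀ with hα'
  have hinv : ∀ j, blk (s⁻¹ : GL (Fin a × Fin b) F).1 j j₀ * α = if j = j₀ then 1 else 0 := fun j => by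
    have h1 := congrArg (fun X => blk X j j₀) (Units.inv_mul s)
    simp only [blk_mul, blk_one] at h1
    rw [Finset.sum_eq_single j₀ (fun m _ hm => by rw [hs m hm, mul_zero]) (by simp)] at h1
    exact h1
  have hα'α : α' * α = 1 := by rw [hα']; simpa using hinv j₀
  have hαα' : α * α' = 1 := mul_eq_one_comm.mp hα'α
  have hs' : ∀ j, j ≠ j₀ → blk (s⁻¹ : GL (Fin a × Fin b) F).1 j j₀ = 0 := fun j hj => by
    have h1 := congrArg (· * α') (hinv j)
    simpa [mul_assoc, hαα', hj] using h1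
  obtain ⟨P, m, hP, hns⟩ : ∃ (P : Fin b → Matrix (Fin a) (Fin a) F) (m : Fin b),
      InW H j₀ P ∧ ∀ d : F, P m ≠ d • 1 := by
    by_cases hA : ∃ j, j ≠ j₀ ∧ ∃ m, ∀ d : F, α' * blk (s : Matrix (Fin a × Fin b) (Fin a × Fin b) F) j m ≠ d • 1
    · obtain ⟨j, hj, m, hm⟩ := hA
      have hd : (Pi.single j 1 : Fin b → F) ⬝ᵥ Pi.single j₀ 1 = 0 := by simp [hj.symm]
      have hbase : InW H j₀ (Pi.single j (1 : Matrix (Fin a) (Fin a) F)) := by
        refine ⟨Pi.single_eq_of_ne hj.symm _, kr 1 (tv (Pi.single j₀ 1) (Pi.single j 1)),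
          hM _ _ (det_kr_eq_one (map_one _) (det_tv _ _)), blk_ext fun p q => ?_⟩
        rw [kr_coe, blk_kron, blk_add, blk_one, blk_zmat, tv_coe hd, Units.val_one, Matrix.add_apply,
          add_smul, Matrix.one_apply, ite_smul, one_smul, zero_smul, vecMulVec_apply]
        congr 1
        by_cases hp : p = j₀
        · subst hp
          by_cases hq' : q = j
          · subst hq'; simp
          · simp [hq']
        · simp [hp]
      refine ⟨_, m, hbase.conj (inv_mem hsH) hs' (by rw [inv_inv]; exact hs), fun d h => hm d ?_⟩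
      rw [← h, inv_inv, Finset.sum_eq_single j (fun n _ hn => by simp [hn]) (by simp)]
      simp [hα']
    · push Not at hA
      choose β hβ using hA
      have hsb : ∀ j (hj : j ≠ j₀) m, blk (s : Matrix (Fin a × Fin b) (Fin a × Fin b) F) j m =
          β j hj m • α := fun j hj m => by
        have := congrArg (α * ·) (hβ j hj m)
        simpa [← mul_assoc, hαα'] using this
      let h : Matrix (Fin b) (Fin b) F := Matrix.of fun j m =>
        if hj : j = j₀ then (if m = j₀ then 1 else 0) else (if m = j₀ then 0 else β j hj m)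
      let P : Fin b → Matrix (Fin a) (Fin a) F := fun m =>
        if m = j₀ then 0 else α' * blk (s : Matrix (Fin a × Fin b) (Fin a × Fin b) F) j₀ m
      have hP0 : P j₀ = 0 := by simp [P]
      have hfac : (s : Matrix (Fin a × Fin b) (Fin a × Fin b) F) = α ⊗ₖ h * (1 + zmat j₀ P) := by
        refine blk_ext fun j m => ?_
        rw [mul_add, mul_one, mul_zmat (fun j hj => by simp [blk_kron, h, hj]), blk_add, blk_zmat, blk_kron,
          blk_kron]
        by_cases hj : j = j₀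
        · subst hj
          by_cases hm : m = j
          · subst hm; simp [h, P, hα]
          · simp [h, P, hm, ← mul_assoc, hαα']
        · rw [if_neg hj, add_zero]
          by_cases hm : m = j₀
          · subst hm; simp [h, hj, hs j hj]
          · simp [h, hj, hm, hsb j hj]
      have hdK : (α ⊗ₖ h).det = 1 := by
        have h1 := congrArg Units.val hdet
        rw [Matrix.GeneralLinearGroup.val_det_apply, hfac, Matrix.det_mul, det_one_add_zmat hP0,
          mul_one, Units.val_one] at h1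
        exact h1
      have hdets := hdK
      rw [Matrix.det_kronecker, Fintype.card_fin, Fintype.card_fin] at hdets
      have hα0 : α.det ≠ 0 := fun h0 => by
        rw [h0, zero_pow (by omega : b ≠ 0), zero_mul] at hdets; exact one_ne_zero hdets.symm
      have hh0 : h.det ≠ 0 := fun h0 => by
        rw [h0, zero_pow (by omega : a ≠ 0), mul_zero] at hdets; exact one_ne_zero hdets.symm
      set K := kr (Matrix.GeneralLinearGroup.mkOfDetNeZero α hα0)
        (Matrix.GeneralLinearGroup.mkOfDetNeZero h hh0) with hK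
      have hKH : K ∈ H := hM _ _ (Units.ext (by
        rw [Matrix.GeneralLinearGroup.val_det_apply]; exact hdK))
      have hPW : InW H j₀ P := by
        refine ⟨hP0, K⁻¹ * s, mul_mem (inv_mem hKH) hsH, ?_⟩
        rw [Units.val_mul, hfac, show α ⊗ₖ h = (K : Matrix (Fin a × Fin b) (Fin a × Fin b) F) from rfl,
          ← mul_assoc, Units.inv_mul, one_mul]
      suffices hns : ∃ m, ∀ d : F, P m ≠ d • 1 by
        obtain ⟨m, hm⟩ := hns
        exact ⟨P, m, hPW, hm⟩
      by_contra hc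
      push Not at hc
      choose γ hγ using hc
      have hγ0 : γ ⬝ᵥ Pi.single j₀ 1 = 0 := by
        have h1 := hγ j₀
        rw [hP0] at h1
        have h2 := congrFun (congrFun h1 ⟨0, by omega⟩) ⟨0, by omega⟩
        simpa [dotProduct_single_one] using h2.symm
      refine hsT ?_
      have : s = K * kr 1 (tv (Pi.single j₀ 1) γ) := by
        refine Units.ext (hfac.trans ?_)
        rw [Units.val_mul]
        refine congrArg ((α ⊗ₖ h) * ·) (blk_ext fun p q => ?_)
        rw [blk_add, blk_one, blk_zmat, kr_coe, blk_kron, tv_coe hγ0, Units.val_one, Matrix.add_apply,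
          add_smul, Matrix.one_apply, ite_smul, one_smul, zero_smul, vecMulVec_apply]
        congr 1
        by_cases hp : p = j₀
        · subst hp; simp [hγ]
        · simp [hp]
      rw [this]
      exact mul_mem (kr_mem _ _) (kr_mem _ _)
  have hm : m ≠ j₀ := fun e => hns 0 (by rw [e, hP.1, zero_smul])
  obtain ⟨u, ρ, hu, hρ, hρu, hR⟩ := Rk.exists_rankOne hM hq (Rk.of_inW hM hb hP hm) hns
  obtain ⟨-, g, hg, hgx⟩ := Rk.all_root hM ha hu hρ hρu hR i k hik c l hl
  convert hg using 1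
  refine Units.ext (blk_ext fun p q => ?_)
  rw [hgx, Frame.el, tv_coe (Frame.el_ortho (by simp [hl.symm]) c), blk_add, blk_add, blk_zmat]
  congr 1
  ext x y
  by_cases hp : p = j₀
  · subst hp
    by_cases hq' : q = l
    · subst hq'; simp [blk_apply, vecMulVec_apply, Pi.single_apply]
    · simp [blk_apply, vecMulVec_apply, Pi.single_apply, hq', Prod.ext_iff]
  · simp [blk_apply, vecMulVec_apply, Pi.single_apply, hp, Prod.ext_iff]

end Cfsg.Agent.TensorMax
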