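import Cfsg.Agent.MaxSub.Basic

/-!
Blocks of matrices on a tensor product, Kronecker products as units, and the moves of the special
linear group (helper99).
-/

set_option autoImplicit false
set_option linter.unusedSectionVars false

namespace Cfsg.Agent.TensorMax

open Matrix Cfsg.Agent.MaxSub
open scoped Kronecker

variable {F : Type*} [Field F] {a b : ℕ}

/-- The `(j, l)` block of a matrix on `F^a ⊗ F^b`. -/
def blk (X : Matrix (Fin a × Fin b) (Fin a × Fin b) F) (j l : Fin b) : Matrix (Fin a) (Fin a) F :=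
  Matrix.of fun i k => X (i, j) (k, l)

theorem blk_apply (X : Matrix (Fin a × Fin b) (Fin a × Fin b) F) (j l : Fin b) (i k : Fin a) :
    blk X j l i k = X (i, j) (k, l) := rfl

theorem blk_ext {X Y : Matrix (Fin a × Fin b) (Fin a × Fin b) F}
    (h : ∀ j l, blk X j l = blk Y j l) : X = Y :=
  Matrix.ext fun p q => congrFun (congrFun (h p.2 q.2) p.1) q.1

theorem blk_mul (X Y : Matrix (Fin a × Fin b) (Fin a × Fin b) F) (j l : Fin b) :
    blk (X * Y) j l = ∑ m, blk X j m * blk Y m l := by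
  ext i k
  simp only [blk_apply, Matrix.mul_apply, Fintype.sum_prod_type, Matrix.sum_apply]
  rw [Finset.sum_comm]

theorem blk_one (j l : Fin b) :
    blk (1 : Matrix (Fin a × Fin b) (Fin a × Fin b) F) j l = if j = l then 1 else 0 := by
  ext i k
  by_cases h : j = l
  · subst h; simp [blk_apply, Matrix.one_apply]
  · simp [blk_apply, Matrix.one_apply, h]

theorem blk_add (X Y : Matrix (Fin a × Fin b) (Fin a × Fin b) F) (j l : Fin b) :
    blk (X + Y) j l = blk X j l + blk Y j l := rfl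

theorem blk_kron (g : Matrix (Fin a) (Fin a) F) (h : Matrix (Fin b) (Fin b) F) (j l : Fin b) :
    blk (g ⊗ₖ h) j l = h j l • g := by
  ext i k
  simp [blk_apply, mul_comm]

/-- The Kronecker product of two units. -/
def kr (g : GL (Fin a) F) (h : GL (Fin b) F) : GL (Fin a × Fin b) F :=
  ⟨(g : Matrix (Fin a) (Fin a) F) ⊗ₖ (h : Matrix (Fin b) (Fin b) F),
    ((g⁻¹ : GL (Fin a) F) : Matrix (Fin a) (Fin a) F) ⊗ₖ ((h⁻¹ : GL (Fin b) F) : Matrix (Fin b) (Fin b) F),
    by rw [← Matrix.mul_kronecker_mul, ← Units.val_mul, ← Units.val_mul, mul_inv_cancel, mul_inv_cancel,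
      Units.val_one, Units.val_one, Matrix.one_kronecker_one],
    by rw [← Matrix.mul_kronecker_mul, ← Units.val_mul, ← Units.val_mul, inv_mul_cancel, inv_mul_cancel,
      Units.val_one, Units.val_one, Matrix.one_kronecker_one]⟩

theorem kr_coe (g : GL (Fin a) F) (h : GL (Fin b) F) :
    (kr g h : Matrix (Fin a × Fin b) (Fin a × Fin b) F) =
      (g : Matrix (Fin a) (Fin a) F) ⊗ₖ (h : Matrix (Fin b) (Fin b) F) := rfl

theorem kr_inv (g : GL (Fin a) F) (h : GL (Fin b) F) : (kr g h)⁻¹ = kr g⁻¹ h⁻¹ := rfl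

theorem kr_mem (g : GL (Fin a) F) (h : GL (Fin b) F) :
    kr g h ∈ Cfsg.Geo.kroneckerSubgroup a b F := ⟨g, h, rfl⟩

theorem det_kr_eq_one {g : GL (Fin a) F} {h : GL (Fin b) F}
    (hg : Matrix.GeneralLinearGroup.det g = 1) (hh : Matrix.GeneralLinearGroup.det h = 1) :
    Matrix.GeneralLinearGroup.det (kr g h) = 1 := by
  refine Units.ext ?_
  have h1 := congrArg Units.val hg
  have h2 := congrArg Units.val hh
  simp only [Matrix.GeneralLinearGroup.val_det_apply, Units.val_one] at h1 h2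
  simp [Matrix.GeneralLinearGroup.val_det_apply, kr_coe, Matrix.det_kronecker, h1, h2]

/-- The special linear group is transitive on non-zero vectors. -/
theorem exists_det_one_map {ι : Type} [Fintype ι] [DecidableEq ι] (hι : 2 ≤ Fintype.card ι)
    {u v : ι → F} (hu : u ≠ 0) (hv : v ≠ 0) :
    ∃ g : GL ι F, Matrix.GeneralLinearGroup.det g = 1 ∧ (g : Matrix ι ι F) *ᵥ u = v := by
  have key : ∀ {u v : ι → F}, u ∉ Submodule.span F {v - u} →
      ∃ g : GL ι F, Matrix.GeneralLinearGroup.det g = 1 ∧ (g : Matrix ι ι F) *ᵥ u = v := by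
    intro u v h
    obtain ⟨φ, hφ, hφu⟩ := exists_annihilator h
    refine ⟨tv (v - u) φ, det_tv _ _, ?_⟩
    rw [tv_mulVec (hφ _ (Submodule.mem_span_singleton_self _)), hφu, one_smul, add_sub_cancel]
  have key' : ∀ {u v : ι → F}, v ≠ 0 → u ∉ Submodule.span F {v} → u ∉ Submodule.span F {v - u} := by
    intro u v hv h hc
    obtain ⟨c, hc⟩ := Submodule.mem_span_singleton.mp hc
    by_cases hc1 : c + 1 = 0
    · exact hv (by
        have hm : c = -1 := eq_neg_of_add_eq_zero_left hc1
        rw [hm, neg_one_smul, neg_sub, sub_eq_self] at hc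
        exact hc)
    · refine h (Submodule.mem_span_singleton.mpr ⟨(c + 1)⁻¹ * c, ?_⟩)
      have h2 : c • v = (c + 1) • u := by rw [smul_sub, sub_eq_iff_eq_add] at hc; rw [hc, add_smul, one_smul, add_comm]
      rw [mul_smul, h2, smul_smul, inv_mul_cancel₀ hc1, one_smul]
  obtain ⟨w, hw⟩ : ∃ w : ι → F, w ∉ Submodule.span F {u} ∧ w ∉ Submodule.span F {v} := by
    have hlt : ∀ x : ι → F, Submodule.span F {x} < ⊤ := fun x => by
      refine lt_top_iff_ne_top.mpr fun h => ?_
      have h1 : Module.finrank F (Submodule.span F ({x} : Set (ι → F))) ≤ 1 := by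
        simpa using finrank_span_le_card (R := F) ({x} : Set (ι → F))
      rw [h, finrank_top, Module.finrank_pi] at h1
      omega
    obtain ⟨x, -, hx⟩ := SetLike.exists_of_lt (hlt u)
    obtain ⟨y, -, hy⟩ := SetLike.exists_of_lt (hlt v)
    by_cases h1 : x ∈ Submodule.span F {v}
    · by_cases h2 : y ∈ Submodule.span F {u}
      · exact ⟨x + y, fun h => hx ((Submodule.add_mem_iff_left _ h2).mp h),
          fun h => hy ((Submodule.add_mem_iff_right _ h1).mp h)⟩
      · exact ⟨y, h2, hy⟩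
    · exact ⟨x, hx, h1⟩
  have hw0 : w ≠ 0 := fun h => hw.1 (h ▸ zero_mem _)
  have hsymm : ∀ {x y : ι → F}, x ≠ 0 → y ∉ Submodule.span F {x} → x ∉ Submodule.span F {y} := by
    intro x y hx h hc
    obtain ⟨c, rfl⟩ := Submodule.mem_span_singleton.mp hc
    have hc0 : c ≠ 0 := fun h0 => hx (by rw [h0, zero_smul])
    exact h (Submodule.mem_span_singleton.mpr ⟨c⁻¹, inv_smul_smul₀ hc0 y⟩)
  obtain ⟨g, hg, hgu⟩ := key (key' hw0 (hsymm hu hw.1))
  obtain ⟨g', hg', hgw⟩ := key (key' hv hw.2)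
  exact ⟨g' * g, by rw [map_mul, hg, hg', one_mul],
    by rw [Units.val_mul, ← mulVec_mulVec, hgu, hgw]⟩

end Cfsg.Agent.TensorMax
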